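import Mathlib

/-!
# The Grothendieck topology on `Over S` generated affine-locally by a class of morphisms

`C` a class of morphisms of schemes stable under composition and base change, closed under finite
coproducts and containing finite affine open covers of affine schemes.  A sieve `R` on `X` is
covering (`Cov`) when `X` has an affine open cover `(U_i)` with, for each `i`, finitely many affine
`V_j → X` in `R` factoring through `U_i` with `∐ V_j → U_i` in `C` (`LocData`).  We prove the three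
axioms of a Grothendieck topology.
-/

set_option autoImplicit false
universe u
open CategoryTheory CategoryTheory.Limits AlgebraicGeometry

namespace Groth.Agent.H8.GenTop

variable (C : MorphismProperty Scheme.{u})

/-- base change of a finite `Limits.Sigma.desc`. -/
theorem sigmaDesc_fst [C.IsStableUnderBaseChange] {U W : Scheme.{u}} (g : W ⟶ U) {κ : Type u}
    [Finite κ] (V : κ → Scheme.{u}) (ψ : ∀ j, V j ⟶ U) (h : C (Limits.Sigma.desc ψ)) :
    C (Limits.Sigma.desc fun j => pullback.fst g (ψ j)) := by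
  have hau : IsUniversalColimit (Cofan.mk (∐ V) (Limits.Sigma.ι V)) :=
    FinitaryPreExtensive.isUniversal_finiteCoproducts (coproductIsCoproduct V)
  have hpb := hau.isPullback_of_isColimit_left ψ (Limits.Sigma.desc ψ) g
    (fun j => pullback.fst g (ψ j)) (fun j => pullback.snd g (ψ j))
    (fun j => IsPullback.of_hasPullback g (ψ j))
    (coproductIsCoproduct fun j => pullback g (ψ j)) (fun j => by simp [Cofan.inj])
  have e : Cofan.IsColimit.desc (coproductIsCoproduct fun j => pullback g (ψ j))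
      (fun j => pullback.fst g (ψ j)) = Limits.Sigma.desc fun j => pullback.fst g (ψ j) := by
    apply Limits.Sigma.hom_ext
    intro j
    simp [Cofan.IsColimit.desc, Limits.Sigma.ι, coproductIsCoproduct]
  rw [e] at hpb
  exact C.of_isPullback hpb.flip h

/-- composition of finite `Limits.Sigma.desc`s. -/
theorem sigmaDesc_comp [C.IsStableUnderComposition] [C.RespectsIso]
    (hcoprod : ∀ (κ : Type u) [Finite κ] (A B : κ → Scheme.{u}) (f : ∀ j, A j ⟶ B j),
      (∀ j, C (f j)) → C (Limits.Sigma.map f))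
    {U : Scheme.{u}} {κ : Type u} [Finite κ] (μ : κ → Type u) [∀ j, Finite (μ j)]
    (V : κ → Scheme.{u}) (T : ∀ j, μ j → Scheme.{u}) (χ : ∀ j m, T j m ⟶ V j)
    (ψ : ∀ j, V j ⟶ U) (hψ : C (Limits.Sigma.desc ψ)) (hχ : ∀ j, C (Limits.Sigma.desc (χ j))) :
    C (Limits.Sigma.desc fun p : Σ j, μ j => χ p.1 p.2 ≫ ψ p.1) := by
  have e : Limits.Sigma.desc (fun p : Σ j, μ j => χ p.1 p.2 ≫ ψ p.1) =
      (sigmaSigmaIso μ T).inv ≫ Limits.Sigma.map (fun j => Limits.Sigma.desc (χ j)) ≫ Limits.Sigma.desc ψ := by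
    apply Limits.Sigma.hom_ext
    rintro ⟨j, m⟩
    simp
  rw [e, C.cancel_left_of_respectsIso]
  exact C.comp_mem _ _ (hcoprod κ _ _ _ hχ) hψ

variable {S : Scheme.{u}}

/-- finite affine `C`-covering datum of the open `U` inside the sieve `R`. -/
def LocData {X : Over S} (R : Sieve X) (U : X.left.Opens) : Prop :=
  ∃ (κ : Type u) (_ : Finite κ) (V : κ → Over S) (φ : ∀ j, V j ⟶ X)
    (ψ : ∀ j, (V j).left ⟶ (U : Scheme.{u})),
    (∀ j, IsAffine (V j).left) ∧ (∀ j, R.arrows (φ j)) ∧ (∀ j, ψ j ≫ U.ι = (φ j).left) ∧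
      C (Limits.Sigma.desc ψ)

/-- the covering sieves. -/
def Cov (X : Over S) (R : Sieve X) : Prop :=
  ∃ (ι : Type u) (U : ι → X.left.Opens), (∀ i, IsAffineOpen (U i)) ∧ ⨆ i, U i = ⊤ ∧
    ∀ i, LocData C R (U i)

variable {C}

theorem locData_top
    (haff : ∀ (U : Scheme.{u}) [IsAffine U] (κ : Type u) [Finite κ] (V : κ → U.Opens),
      (∀ j, IsAffineOpen (V j)) → ⨆ j, V j = ⊤ → C (Limits.Sigma.desc fun j => (V j).ι))
    {X : Over S} (U : X.left.Opens) (hU : IsAffineOpen U) : LocData C (⊤ : Sieve X) U := by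
  have : IsAffine (U : Scheme.{u}) := hU
  let T : (U : Scheme.{u}).Opens := ⊤
  refine ⟨PUnit.{u+1}, inferInstance, fun _ => Over.mk ((T.ι ≫ U.ι) ≫ X.hom),
    fun _ => Over.homMk (T.ι ≫ U.ι) rfl, fun _ => T.ι, fun _ => ?_, fun _ => trivial,
    fun _ => rfl, ?_⟩
  · exact (isAffineOpen_top (U : Scheme.{u}))
  · exact haff (U : Scheme.{u}) PUnit.{u+1} (fun _ => T) (fun _ => isAffineOpen_top _)
      (by simp [T])

theorem cov_top
    (haff : ∀ (U : Scheme.{u}) [IsAffine U] (κ : Type u) [Finite κ] (V : κ → U.Opens),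
      (∀ j, IsAffineOpen (V j)) → ⨆ j, V j = ⊤ → C (Limits.Sigma.desc fun j => (V j).ι))
    (X : Over S) : Cov C X ⊤ :=
  ⟨X.left.affineOpens, fun i => i.1, fun i => i.2, iSup_affineOpens_eq_top _,
    fun i => locData_top haff i.1 i.2⟩

theorem locData_pullback [C.IsStableUnderBaseChange] {X Y : Over S} (g : Y ⟶ X) (R : Sieve X)
    (U : X.left.Opens) (hU : IsAffineOpen U) (W : Y.left.Opens) (hW : IsAffineOpen W)
    (hWU : W ≤ g.left ⁻¹ᵁ U) (h : LocData C R U) : LocData C (R.pullback g) W := by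
  obtain ⟨κ, hκ, V, φ, ψ, hVaff, hφR, hψφ, hCψ⟩ := h
  have : IsAffine (U : Scheme.{u}) := hU
  have : IsAffine (W : Scheme.{u}) := hW
  obtain ⟨gW, hgW⟩ : ∃ gW : (W : Scheme.{u}) ⟶ (U : Scheme.{u}), gW ≫ U.ι = W.ι ≫ g.left :=
    ⟨g.left.resLE U W hWU, Scheme.Hom.resLE_comp_ι _ _⟩
  refine ⟨κ, hκ, fun j => Over.mk ((pullback.fst gW (ψ j) ≫ W.ι) ≫ Y.hom),
    fun j => Over.homMk (pullback.fst gW (ψ j) ≫ W.ι) rfl, fun j => pullback.fst gW (ψ j),
    fun j => ?_, fun j => ?_, fun j => rfl, ?_⟩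
  · have := hVaff j
    show IsAffine (pullback gW (ψ j))
    infer_instance
  · have hw : pullback.snd gW (ψ j) ≫ (V j).hom = (pullback.fst gW (ψ j) ≫ W.ι) ≫ Y.hom := by
      calc pullback.snd gW (ψ j) ≫ (V j).hom
          = pullback.snd gW (ψ j) ≫ (φ j).left ≫ X.hom := by rw [Over.w]
        _ = pullback.snd gW (ψ j) ≫ (ψ j ≫ U.ι) ≫ X.hom := by rw [hψφ j]
        _ = (pullback.fst gW (ψ j) ≫ gW) ≫ U.ι ≫ X.hom := by
            rw [pullback.condition]; simp only [Category.assoc]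
        _ = pullback.fst gW (ψ j) ≫ (W.ι ≫ g.left) ≫ X.hom := by
            rw [← hgW]; simp only [Category.assoc]
        _ = (pullback.fst gW (ψ j) ≫ W.ι) ≫ Y.hom := by
            rw [← Over.w g]; simp only [Category.assoc]
    let sn : Over.mk ((pullback.fst gW (ψ j) ≫ W.ι) ≫ Y.hom) ⟶ V j :=
      Over.homMk (pullback.snd gW (ψ j)) hw
    have hcomp : (Over.homMk (pullback.fst gW (ψ j) ≫ W.ι) rfl :
        Over.mk ((pullback.fst gW (ψ j) ≫ W.ι) ≫ Y.hom) ⟶ Y) ≫ g = sn ≫ φ j := by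
      ext
      show (pullback.fst gW (ψ j) ≫ W.ι) ≫ g.left = pullback.snd gW (ψ j) ≫ (φ j).left
      rw [← hψφ j, Category.assoc, ← hgW, ← Category.assoc, pullback.condition, Category.assoc]
    show R.arrows (_ ≫ g)
    rw [hcomp]
    exact R.downward_closed (hφR j) sn
  · exact sigmaDesc_fst C gW (fun j => (V j).left) ψ hCψ

theorem cov_pullback [C.IsStableUnderBaseChange] {X Y : Over S} (g : Y ⟶ X) (R : Sieve X)
    (h : Cov C X R) : Cov C Y (R.pullback g) := by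
  obtain ⟨ι, U, hUaff, hUtop, hloc⟩ := h
  refine ⟨Σ i : ι, {W : Y.left.Opens // IsAffineOpen W ∧ W ≤ g.left ⁻¹ᵁ U i},
    fun p => p.2.1, fun p => p.2.2.1, ?_, fun p =>
      locData_pullback g R (U p.1) (hUaff p.1) p.2.1 p.2.2.1 p.2.2.2 (hloc p.1)⟩
  rw [eq_top_iff]
  intro y _
  have hy : g.left y ∈ (⨆ i, U i) := by rw [hUtop]; trivial
  obtain ⟨i, hi⟩ := TopologicalSpace.Opens.mem_iSup.mp hy
  obtain ⟨W, hW, hyW, hWle⟩ := TopologicalSpace.Opens.isBasis_iff_nbhd.mp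
    Y.left.isBasis_affineOpens (show y ∈ g.left ⁻¹ᵁ U i from hi)
  exact TopologicalSpace.Opens.mem_iSup.mpr ⟨⟨i, W, hW, hWle⟩, hyW⟩

/-- on an affine scheme covering data can be made global and finite. -/
theorem cov_affine [C.IsStableUnderComposition] [C.RespectsIso]
    (hcoprod : ∀ (κ : Type u) [Finite κ] (A B : κ → Scheme.{u}) (f : ∀ j, A j ⟶ B j),
      (∀ j, C (f j)) → C (Limits.Sigma.map f))
    (haff : ∀ (U : Scheme.{u}) [IsAffine U] (κ : Type u) [Finite κ] (V : κ → U.Opens),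
      (∀ j, IsAffineOpen (V j)) → ⨆ j, V j = ⊤ → C (Limits.Sigma.desc fun j => (V j).ι))
    (Y : Over S) [IsAffine Y.left] (R : Sieve Y) (h : Cov C Y R) :
    ∃ (μ : Type u) (_ : Finite μ) (T : μ → Over S) (θ : ∀ m, T m ⟶ Y),
      (∀ m, IsAffine (T m).left) ∧ (∀ m, R.arrows (θ m)) ∧
        C (Limits.Sigma.desc fun m => (θ m).left) := by
  classical
  obtain ⟨ι, W, hWaff, hWtop, hloc⟩ := h
  -- finite subcover
  obtain ⟨t, ht⟩ : ∃ t : Finset ι, ⨆ l : t, W l.1 = ⊤ := by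
    have hcov : (Set.univ : Set Y.left) ⊆ ⋃ l, (W l : Set Y.left) := by
      intro y _
      have hy : y ∈ (⨆ l, W l) := by rw [hWtop]; trivial
      obtain ⟨l, hl⟩ := TopologicalSpace.Opens.mem_iSup.mp hy
      exact Set.mem_iUnion.mpr ⟨l, hl⟩
    obtain ⟨t, ht⟩ := isCompact_univ.elim_finite_subcover (fun l => (W l : Set Y.left))
      (fun l => (W l).isOpen) hcov
    refine ⟨t, ?_⟩
    rw [eq_top_iff]
    intro y _
    obtain ⟨l, hl⟩ := Set.mem_iUnion.mp (ht (Set.mem_univ y))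
    obtain ⟨hlt, hyl⟩ := Set.mem_iUnion.mp hl
    exact TopologicalSpace.Opens.mem_iSup.mpr ⟨⟨l, hlt⟩, hyl⟩
  choose κ hκ V φ ψ hVaff hφR hψφ hCψ using fun l : t => hloc l.1
  refine ⟨Σ l : t, κ l, inferInstance, fun p => V p.1 p.2, fun p => φ p.1 p.2,
    fun p => hVaff p.1 p.2, fun p => hφR p.1 p.2, ?_⟩
  have hCW : C (Limits.Sigma.desc fun l : t => (W l.1).ι) :=
    haff Y.left t (fun l => W l.1) (fun l => hWaff l.1) ht
  have := sigmaDesc_comp C hcoprod (κ := t) κ (fun l => ((W l.1 : Y.left.Opens) : Scheme.{u}))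
    (fun l m => (V l m).left) ψ (fun l => (W l.1).ι) hCW hCψ
  have e : (fun p : Σ l : t, κ l => ψ p.1 p.2 ≫ (W p.1.1).ι) =
      fun p : Σ l : t, κ l => (φ p.1 p.2).left := by
    funext p
    exact hψφ p.1 p.2
  rw [e] at this
  exact this

theorem cov_trans [C.IsStableUnderComposition] [C.RespectsIso]
    (hcoprod : ∀ (κ : Type u) [Finite κ] (A B : κ → Scheme.{u}) (f : ∀ j, A j ⟶ B j),
      (∀ j, C (f j)) → C (Limits.Sigma.map f))
    (haff : ∀ (U : Scheme.{u}) [IsAffine U] (κ : Type u) [Finite κ] (V : κ → U.Opens),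
      (∀ j, IsAffineOpen (V j)) → ⨆ j, V j = ⊤ → C (Limits.Sigma.desc fun j => (V j).ι))
    {X : Over S} (R : Sieve X) (hR : Cov C X R) (R' : Sieve X)
    (hR' : ∀ ⦃Y : Over S⦄ ⦃f : Y ⟶ X⦄, R.arrows f → Cov C Y (R'.pullback f)) :
    Cov C X R' := by
  obtain ⟨ι, U, hUaff, hUtop, hloc⟩ := hR
  refine ⟨ι, U, hUaff, hUtop, fun i => ?_⟩
  obtain ⟨κ, hκ, V, φ, ψ, hVaff, hφR, hψφ, hCψ⟩ := hloc i
  have key : ∀ j : κ, ∃ (μ : Type u) (_ : Finite μ) (T : μ → Over S) (θ : ∀ m, T m ⟶ V j),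
      (∀ m, IsAffine (T m).left) ∧ (∀ m, (R'.pullback (φ j)).arrows (θ m)) ∧
        C (Limits.Sigma.desc fun m => (θ m).left) := by
    intro j
    have := hVaff j
    exact cov_affine hcoprod haff (V j) _ (hR' (hφR j))
  choose μ hμ T θ hTaff hθR hCθ using key
  refine ⟨Σ j : κ, μ j, inferInstance, fun p => T p.1 p.2, fun p => θ p.1 p.2 ≫ φ p.1,
    fun p => (θ p.1 p.2).left ≫ ψ p.1, fun p => hTaff p.1 p.2, fun p => hθR p.1 p.2,
    fun p => ?_, ?_⟩
  · show ((θ p.1 p.2).left ≫ ψ p.1) ≫ (U i).ι = (θ p.1 p.2).left ≫ (φ p.1).left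
    rw [Category.assoc, hψφ]
  · exact sigmaDesc_comp C hcoprod μ (fun j => (V j).left) (fun j m => (T j m).left)
      (fun j m => (θ j m).left) ψ hCψ hCθ

/-- the topology. -/
def topology [C.IsStableUnderComposition] [C.IsStableUnderBaseChange]
    (hcoprod : ∀ (κ : Type u) [Finite κ] (A B : κ → Scheme.{u}) (f : ∀ j, A j ⟶ B j),
      (∀ j, C (f j)) → C (Limits.Sigma.map f))
    (haff : ∀ (U : Scheme.{u}) [IsAffine U] (κ : Type u) [Finite κ] (V : κ → U.Opens),
      (∀ j, IsAffineOpen (V j)) → ⨆ j, V j = ⊤ → C (Limits.Sigma.desc fun j => (V j).ι)) :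
    GrothendieckTopology (Over S) where
  sieves X := {R | Cov C X R}
  top_mem' X := cov_top haff X
  pullback_stable' _ _ _ g h := cov_pullback g _ h
  transitive' _ R hR R' hR' := cov_trans hcoprod haff R hR R' hR'

end Groth.Agent.H8.GenTop
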