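import Groth.Agent.Lib.Helper8.GenTop.Basic

/-!
# Sheaves for the topology generated affine-locally by a class of morphisms

`Cov C` (see `GenTop.Basic`) is contained in every Grothendieck topology containing the big Zariski
topology and the sieves generated by single `C`-morphisms (`cov_le`); conversely Zariski covering
sieves (`cov_of_zar`) and the sieve generated by a `C`-morphism (`cov_singleton`) are in `Cov C`.
The sheaf criterion `isSheafFor_of` follows with `Sheaf.finestTopologySingle`.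
-/

set_option autoImplicit false
universe v u
open CategoryTheory CategoryTheory.Limits AlgebraicGeometry

namespace Groth.Agent.H8.GenTop

variable {C : MorphismProperty Scheme.{u}} {S : Scheme.{u}}

/-- a sieve containing a jointly surjective family of open immersions is Zariski-covering. -/
theorem zar_mem {X : Over S} (R : Sieve X) {ι : Type u} (W : ι → Over S) (w : ∀ i, W i ⟶ X)
    (hopen : ∀ i, IsOpenImmersion (w i).left)
    (hcov : ∀ x : X.left, ∃ i, x ∈ Set.range (w i).left)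
    (hR : ∀ i, R.arrows (w i)) :
    R ∈ (Scheme.zariskiTopology.over S) X := by
  rw [GrothendieckTopology.mem_over_iff]
  have h0 : Presieve.ofArrows (fun i => (W i).left) (fun i => (w i).left) ∈
      Scheme.precoverage @IsOpenImmersion X.left :=
    (Scheme.ofArrows_mem_precoverage_iff @IsOpenImmersion).mpr ⟨hcov, hopen⟩
  refine GrothendieckTopology.superset_covering _ ?_ (Precoverage.generate_mem_toGrothendieck h0)
  rw [Sieve.generate_le_iff]
  rintro Y g ⟨i⟩
  rw [Sieve.overEquiv_iff]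
  have e : (Over.homMk (w i).left : Over.mk ((w i).left ≫ X.hom) ⟶ X) =
      (Over.homMk (𝟙 _) (by simp) : Over.mk ((w i).left ≫ X.hom) ⟶ W i) ≫ w i := by
    ext; simp
  rw [e]
  exact R.downward_closed (hR i) _

/-- finite families whose `Sigma.desc` is in `C` generate covering sieves. -/
theorem fin_mem (T : GrothendieckTopology (Over S))
    (hZ : Scheme.zariskiTopology.over S ≤ T)
    (hS : ∀ (X X' : Over S) (f : X' ⟶ X), C f.left → Sieve.generate (Presieve.singleton f) ∈ T X)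
    (Y : Over S) {κ : Type u} (V : κ → Over S) (χ : ∀ j, V j ⟶ Y)
    (hC : C (Limits.Sigma.desc fun j => (χ j).left)) :
    Sieve.generate (Presieve.ofArrows V χ) ∈ T Y := by
  obtain ⟨σ, hσ⟩ : ∃ σ : (∐ fun j => (V j).left) ⟶ Y.left,
      σ = Limits.Sigma.desc fun j => (χ j).left := ⟨_, rfl⟩
  have hισ : ∀ j, Limits.Sigma.ι (fun j => (V j).left) j ≫ σ = (χ j).left := by
    intro j; rw [hσ]; simp
  rw [← hσ] at hC
  let SgO : Over S := Over.mk (σ ≫ Y.hom)
  let σO : SgO ⟶ Y := Over.homMk σ rfl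
  have h1 : Sieve.generate (Presieve.singleton σO) ∈ T Y := hS Y SgO σO hC
  let inj : ∀ j, V j ⟶ SgO := fun j => Over.homMk (Limits.Sigma.ι (fun j => (V j).left) j) (by
    show _ ≫ σ ≫ Y.hom = (V j).hom
    rw [← Category.assoc, hισ, Over.w])
  have hinj : ∀ j, inj j ≫ σO = χ j := by
    intro j; ext; exact hισ j
  have hz : Sieve.generate (Presieve.ofArrows V inj) ∈ T SgO := by
    apply hZ
    refine zar_mem _ V inj (fun j => ?_) ?_
      (fun j => Sieve.le_generate _ _ _ (Presieve.ofArrows.mk j))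
    · show IsOpenImmersion (Limits.Sigma.ι (fun j => (V j).left) j)
      infer_instance
    · intro x
      obtain ⟨⟨j, y⟩, hy⟩ := (sigmaMk (fun j => (V j).left)).surjective x
      have hy' : (Limits.Sigma.ι (fun j => (V j).left) j) y = x :=
        (sigmaMk_mk (fun j => (V j).left) j y).symm.trans hy
      exact ⟨j, y, hy'⟩
  have hsup : (Sieve.generate (Presieve.ofArrows V χ)).pullback σO ∈ T SgO := by
    refine T.superset_covering ?_ hz
    rw [Sieve.generate_le_iff]
    rintro _ _ ⟨j⟩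
    show (Sieve.generate (Presieve.ofArrows V χ)).arrows (inj j ≫ σO)
    rw [hinj]
    exact Sieve.le_generate _ _ _ (Presieve.ofArrows.mk j)
  refine T.transitive h1 _ ?_
  intro Z g hg
  obtain ⟨W, h, g', hg', rfl⟩ := hg
  cases hg'
  rw [Sieve.pullback_comp]
  exact T.pullback_stable _ hsup

/-- `Cov C` is contained in any topology containing Zariski and single `C`-morphisms. -/
theorem cov_le (T : GrothendieckTopology (Over S))
    (hZ : Scheme.zariskiTopology.over S ≤ T)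
    (hS : ∀ (X X' : Over S) (f : X' ⟶ X), C f.left → Sieve.generate (Presieve.singleton f) ∈ T X)
    (X : Over S) (R : Sieve X) (h : Cov C X R) : R ∈ T X := by
  obtain ⟨ι, U, hUaff, hUtop, hloc⟩ := h
  let UO : ι → Over S := fun i => Over.mk ((U i).ι ≫ X.hom)
  let uO : ∀ i, UO i ⟶ X := fun i => Over.homMk (U i).ι rfl
  have hZmem : Sieve.generate (Presieve.ofArrows UO uO) ∈ T X := by
    apply hZ
    refine zar_mem _ UO uO (fun i => ?_) ?_
      (fun i => Sieve.le_generate _ _ _ (Presieve.ofArrows.mk i))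
    · show IsOpenImmersion (U i).ι
      infer_instance
    · intro x
      have hx : x ∈ (⨆ i, U i) := by rw [hUtop]; trivial
      obtain ⟨i, hi⟩ := TopologicalSpace.Opens.mem_iSup.mp hx
      refine ⟨i, ?_⟩
      show x ∈ Set.range (U i).ι
      rw [Scheme.Opens.range_ι]
      exact hi
  have hsup : ∀ i, R.pullback (uO i) ∈ T (UO i) := by
    intro i
    obtain ⟨κ, hκ, V, φ, ψ, hVaff, hφR, hψφ, hCψ⟩ := hloc i
    let χ : ∀ j, V j ⟶ UO i := fun j => Over.homMk (ψ j) (by
      show ψ j ≫ (U i).ι ≫ X.hom = (V j).hom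
      rw [← Category.assoc, hψφ, Over.w])
    have hχ : ∀ j, χ j ≫ uO i = φ j := by
      intro j; ext; exact hψφ j
    have hfin : Sieve.generate (Presieve.ofArrows V χ) ∈ T (UO i) :=
      fin_mem T hZ hS (UO i) V χ hCψ
    refine T.superset_covering ?_ hfin
    rw [Sieve.generate_le_iff]
    rintro _ _ ⟨j⟩
    show R.arrows (χ j ≫ uO i)
    rw [hχ]
    exact hφR j
  refine T.transitive hZmem R ?_
  intro Y g hg
  obtain ⟨W, h, g', hg', rfl⟩ := hg
  obtain ⟨i⟩ := hg'
  rw [Sieve.pullback_comp]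
  exact T.pullback_stable _ (hsup i)

/-- covering datum on an affine open whose inclusion is in the sieve. -/
theorem locData_of_mem
    (haff : ∀ (U : Scheme.{u}) [IsAffine U] (κ : Type u) [Finite κ] (V : κ → U.Opens),
      (∀ j, IsAffineOpen (V j)) → ⨆ j, V j = ⊤ → C (Limits.Sigma.desc fun j => (V j).ι))
    {X : Over S} (R : Sieve X) (U : X.left.Opens) (hU : IsAffineOpen U)
    (hR : R.arrows (Over.homMk U.ι rfl : Over.mk (U.ι ≫ X.hom) ⟶ X)) : LocData C R U := by
  have : IsAffine (U : Scheme.{u}) := hU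
  let T : (U : Scheme.{u}).Opens := ⊤
  refine ⟨PUnit.{u+1}, inferInstance, fun _ => Over.mk ((T.ι ≫ U.ι) ≫ X.hom),
    fun _ => Over.homMk (T.ι ≫ U.ι) rfl, fun _ => T.ι, fun _ => ?_, fun _ => ?_,
    fun _ => rfl, ?_⟩
  · exact (isAffineOpen_top (U : Scheme.{u}))
  · have e : (Over.homMk (T.ι ≫ U.ι) rfl : Over.mk ((T.ι ≫ U.ι) ≫ X.hom) ⟶ X) =
        (Over.homMk T.ι (by simp) : Over.mk ((T.ι ≫ U.ι) ≫ X.hom) ⟶ Over.mk (U.ι ≫ X.hom)) ≫
          (Over.homMk U.ι rfl : Over.mk (U.ι ≫ X.hom) ⟶ X) := by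
      ext; simp
    show R.arrows (Over.homMk (T.ι ≫ U.ι) rfl : Over.mk ((T.ι ≫ U.ι) ≫ X.hom) ⟶ X)
    rw [e]
    exact R.downward_closed hR _
  · exact haff (U : Scheme.{u}) PUnit.{u+1} (fun _ => T) (fun _ => isAffineOpen_top _)
      (by simp [T])

/-- Zariski covering sieves are in `Cov C`. -/
theorem cov_of_zar
    (haff : ∀ (U : Scheme.{u}) [IsAffine U] (κ : Type u) [Finite κ] (V : κ → U.Opens),
      (∀ j, IsAffineOpen (V j)) → ⨆ j, V j = ⊤ → C (Limits.Sigma.desc fun j => (V j).ι))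
    (X : Over S) (R : Sieve X) (h : R ∈ (Scheme.zariskiTopology.over S) X) : Cov C X R := by
  rw [GrothendieckTopology.mem_over_iff, Scheme.mem_grothendieckTopology_iff] at h
  obtain ⟨𝒰, h𝒰⟩ := h
  refine ⟨{U : X.left.Opens // IsAffineOpen U ∧ ∃ i, U ≤ (𝒰.f i).opensRange},
    fun U => U.1, fun U => U.2.1, ?_, fun U => ?_⟩
  · rw [eq_top_iff]
    intro x _
    obtain ⟨i, y, hy⟩ := 𝒰.exists_eq x
    have : IsOpenImmersion (𝒰.f i) := 𝒰.map_prop i
    obtain ⟨W, hW, hxW, hWle⟩ := TopologicalSpace.Opens.isBasis_iff_nbhd.mp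
      X.left.isBasis_affineOpens (show x ∈ (𝒰.f i).opensRange from ⟨y, hy⟩)
    exact TopologicalSpace.Opens.mem_iSup.mpr ⟨⟨W, hW, i, hWle⟩, hxW⟩
  · obtain ⟨U, hU, i, hle⟩ := U
    apply locData_of_mem haff R U hU
    have : IsOpenImmersion (𝒰.f i) := 𝒰.map_prop i
    obtain ⟨l, hl⟩ : ∃ l : (U : Scheme.{u}) ⟶ 𝒰.X i, l ≫ 𝒰.f i = U.ι :=
      ⟨IsOpenImmersion.lift (𝒰.f i) U.ι (by rw [Scheme.Opens.range_ι]; exact hle),
        IsOpenImmersion.lift_fac _ _ _⟩
    have hmem : R.arrows (Over.homMk (𝒰.f i) : Over.mk (𝒰.f i ≫ X.hom) ⟶ X) :=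
      (Sieve.overEquiv_iff _ _).mp (h𝒰 _ _ (Presieve.ofArrows.mk i))
    have e : (Over.homMk U.ι rfl : Over.mk (U.ι ≫ X.hom) ⟶ X) =
        (Over.homMk l (by simp [← hl]) : Over.mk (U.ι ≫ X.hom) ⟶ Over.mk (𝒰.f i ≫ X.hom)) ≫
          (Over.homMk (𝒰.f i) rfl : Over.mk (𝒰.f i ≫ X.hom) ⟶ X) := by
      ext; simp [hl]
    rw [e]
    exact R.downward_closed hmem _

/-- a compact scheme has a finite affine open cover. -/
theorem exists_finite_affine_cover (Z : Scheme.{u}) [CompactSpace Z] :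
    ∃ (κ : Type u) (_ : Finite κ) (A : κ → Z.Opens), (∀ l, IsAffineOpen (A l)) ∧ ⨆ l, A l = ⊤ := by
  classical
  have hcov : (Set.univ : Set Z) ⊆ ⋃ W : Z.affineOpens, (W.1 : Set Z) := by
    intro z _
    have hz : z ∈ (⨆ W : Z.affineOpens, (W.1 : Z.Opens)) := by
      rw [iSup_affineOpens_eq_top]; trivial
    obtain ⟨W, hW⟩ := TopologicalSpace.Opens.mem_iSup.mp hz
    exact Set.mem_iUnion.mpr ⟨W, hW⟩
  obtain ⟨t, ht⟩ := isCompact_univ.elim_finite_subcover (fun W : Z.affineOpens => (W.1 : Set Z))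
    (fun W => W.1.isOpen) hcov
  refine ⟨t, inferInstance, fun W => W.1.1, fun W => W.1.2, ?_⟩
  rw [eq_top_iff]
  intro z _
  obtain ⟨W, hW⟩ := Set.mem_iUnion.mp (ht (Set.mem_univ z))
  obtain ⟨hWt, hzW⟩ := Set.mem_iUnion.mp hW
  exact TopologicalSpace.Opens.mem_iSup.mpr ⟨⟨W, hWt⟩, hzW⟩

/-- the sieve generated by a `C`-morphism is in `Cov C`. -/
theorem cov_singleton [C.IsStableUnderBaseChange]
    (hqc : ∀ {A B : Scheme.{u}} (f : A ⟶ B), C f → QuasiCompact f)
    (hres : ∀ (W X' : Scheme.{u}) [IsAffine W] (f : X' ⟶ W), C f →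
      ∀ (κ : Type u) [Finite κ] (A : κ → X'.Opens), (∀ l, IsAffineOpen (A l)) → ⨆ l, A l = ⊤ →
        C (Limits.Sigma.desc fun l => (A l).ι ≫ f))
    {X X' : Over S} (f : X' ⟶ X) (hf : C f.left) :
    Cov C X (Sieve.generate (Presieve.singleton f)) := by
  refine ⟨X.left.affineOpens, fun U => U.1, fun U => U.2, iSup_affineOpens_eq_top _, fun U => ?_⟩
  obtain ⟨U, hU⟩ := U
  have : IsAffine (U : Scheme.{u}) := hU
  let fU : ((f.left ⁻¹ᵁ U : X'.left.Opens) : Scheme.{u}) ⟶ (U : Scheme.{u}) := f.left ∣_ U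
  have hfU : C fU := C.of_isPullback (isPullback_morphismRestrict f.left U).flip hf
  have hqcU : QuasiCompact fU := hqc fU hfU
  have hcpt : CompactSpace ((f.left ⁻¹ᵁ U : X'.left.Opens) : Scheme.{u}) :=
    (HasAffineProperty.iff_of_isAffine (P := @QuasiCompact)).mp hqcU
  obtain ⟨κ, hκ, A, hAaff, hAtop⟩ :=
    exists_finite_affine_cover ((f.left ⁻¹ᵁ U : X'.left.Opens) : Scheme.{u})
  have hC := hres (U : Scheme.{u}) _ fU hfU κ A hAaff hAtop
  refine ⟨κ, hκ, fun l => Over.mk (((A l).ι ≫ (f.left ⁻¹ᵁ U).ι) ≫ X'.hom),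
    fun l => (Over.homMk ((A l).ι ≫ (f.left ⁻¹ᵁ U).ι) rfl :
      Over.mk (((A l).ι ≫ (f.left ⁻¹ᵁ U).ι) ≫ X'.hom) ⟶ X') ≫ f,
    fun l => (A l).ι ≫ fU, fun l => hAaff l, fun l => ?_, fun l => ?_, hC⟩
  · exact ⟨_, _, f, Presieve.singleton.mk, rfl⟩
  · show ((A l).ι ≫ fU) ≫ U.ι = ((A l).ι ≫ (f.left ⁻¹ᵁ U).ι) ≫ f.left
    rw [Category.assoc, Category.assoc, morphismRestrict_ι]

/-- the sheaf criterion. -/
theorem isSheafFor_of [C.IsStableUnderBaseChange] (F : (Over S)ᵒᵖ ⥤ Type v)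
    (hzar : Presieve.IsSheaf (Scheme.zariskiTopology.over S) F)
    (hsing : ∀ (X X' : Over S) (f : X' ⟶ X), C f.left →
      Presieve.IsSheafFor F (Presieve.singleton f))
    (X : Over S) (R : Sieve X) (h : Cov C X R) : Presieve.IsSheafFor F R.arrows := by
  have hmem : R ∈ (Sheaf.finestTopologySingle F) X := by
    refine cov_le (Sheaf.finestTopologySingle F) ?_ ?_ X R h
    · intro Y R' hR' Z g
      exact hzar _ ((Scheme.zariskiTopology.over S).pullback_stable g hR')
    · intro Y Y' f hf Z g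
      rw [← Sieve.pullbackArrows_comm, Presieve.pullback_singleton,
        ← Presieve.isSheafFor_iff_generate]
      apply hsing
      have hpb := (IsPullback.of_hasPullback f g).map (Over.forget S)
      exact C.of_isPullback hpb hf
  have := hmem X (𝟙 X)
  rwa [Sieve.pullback_id] at this

end Groth.Agent.H8.GenTop
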